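import Cfsg.Agent.Schur.Cover
import Cfsg.Agent.SchurG.McL.Main
import Cfsg.Agent.Schur.McL.CovN0

set_option autoImplicit false
set_option maxRecDepth 100000

namespace Cfsg.Agent.Schur.McL
open Cfsg.Agent.Comp Cfsg.Agent.Schur

noncomputable def TC : List Net := [c0, c1, c2, c3, c4, c5, c6, c7, c8, c9, c10, c11, c12]

theorem okC : TOK 66825 TC :=
  (TOK.cons c0_ok (TOK.cons c1_ok (TOK.cons c2_ok (TOK.cons c3_ok (TOK.cons c4_ok (TOK.cons c5_ok (TOK.cons c6_ok (TOK.cons c7_ok (TOK.cons c8_ok (TOK.cons c9_ok (TOK.cons c10_ok (TOK.cons c11_ok (TOK.cons c12_ok (TOK.nil _))))))))))))))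

def Zs : List (List Nat) :=
  [[12, 12],
   [12, 12],
   [12],
   [12],
   [],
   [12],
   [12],
   [],
   [],
   [12, 12],
   [12],
   [12, 12],
   [],
   [],
   [],
   [12, 12],
   [],
   [12, 12],
   [12, 12],
   [],
   [12],
   [],
   [],
   [12, 12],
   [12],
   [],
   [],
   [],
   [12],
   [12],
   [12],
   [12],
   [12],
   [],
   [12, 12],
   [],
   [12, 12],
   [],
   [12, 12],
   [12, 12],
   [],
   [12],
   [12, 12],
   [12, 12],
   [],
   [],
   [],
   [],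
   [],
   [],
   [],
   [],
   [],
   [],
   [],
   [],
   [],
   [],
   []]

def covE_0L : List (List Nat × List Nat) :=
  [([0, 1], [12, 12]),
   ([1, 0], [12, 12]),
   ([2, 3], [12]),
   ([3, 2], [12]),
   ([4, 4], []),
   ([5, 5], [12])]

def covE_1L : List (List Nat × List Nat) :=
  [([6, 6], [12]),
   ([7, 8], []),
   ([8, 7], []),
   ([9, 9], [12, 12]),
   ([10, 10], [12]),
   ([11, 11], [12, 12]),
   ([0, 0, 0], [])]

def covE_2L : List (List Nat × List Nat) :=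
  [([2, 2, 2], []),
   ([0, 2, 1, 3], []),
   ([0, 4, 0, 4], [12, 12]),
   ([2, 4, 2, 4], [])]

def covE_3L : List (List Nat × List Nat) :=
  [([2, 5, 2, 5], [12, 12]),
   ([0, 6, 0, 6], [12, 12]),
   ([4, 5, 4, 5, 4, 5], [])]

def covE_4L : List (List Nat × List Nat) :=
  [([4, 5, 6, 4, 5, 6], [12]),
   ([4, 6, 4, 6, 4, 6], []),
   ([0, 2, 5, 0, 6, 3, 6, 5], [])]

def covE_5L : List (List Nat × List Nat) :=
  [([4, 7, 5, 8], [12, 12]),
   ([2, 8, 4, 5, 7], [12]),
   ([2, 4, 7, 4, 8], [])]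

def covE_6L : List (List Nat × List Nat) :=
  [([2, 7, 2, 7, 4], []),
   ([0, 8, 2, 6, 4, 7], []),
   ([7, 9, 7, 9], [12]),
   ([7, 7, 7, 7], [12])]

def covE_7L : List (List Nat × List Nat) :=
  [([2, 7, 3, 4, 7], [12]),
   ([0, 9, 6, 0, 9, 6], [12]),
   ([0, 9, 1, 9, 6, 9], [12])]

def covE_8L : List (List Nat × List Nat) :=
  [([4, 9, 4, 9, 4, 9], []),
   ([2, 8, 9, 2, 9, 5, 4, 9], [12, 12]),
   ([7, 10, 7, 10], [])]

def covE_9L : List (List Nat × List Nat) :=
  [([7, 7, 9, 10, 9, 10], [12, 12]),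
   ([6, 10, 6, 10, 6, 10], [])]

def covE_10L : List (List Nat × List Nat) :=
  [([7, 9, 10, 7, 9, 10], [12, 12]),
   ([0, 4, 9, 4, 6, 4, 9], [12, 12])]

def covE_11L : List (List Nat × List Nat) :=
  [([0, 2, 4, 10, 0, 5, 1, 10], []),
   ([0, 2, 7, 6, 3, 10, 4, 10, 1, 10], [12])]

def covE_12L : List (List Nat × List Nat) :=
  [([4, 11, 4, 11], [12, 12]),
   ([2, 7, 5, 4, 8], [12, 12]),
   ([2, 8, 2, 8, 5], [])]

def covE_13L : List (List Nat × List Nat) :=
  [([9, 11, 9, 11, 9, 11], []),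
   ([10, 11, 10, 11, 10, 11], []),
   ([2, 5, 4, 7, 7, 4], [])]

def covE_14L : List (List Nat × List Nat) :=
  [([0, 6, 4, 8, 1, 6, 8], []),
   ([6, 11, 6, 11, 6, 11, 6, 11], [])]

def covE_15L : List (List Nat × List Nat) :=
  [([0, 8, 11, 1, 9, 0, 11, 7, 6], []),
   ([5, 9, 5, 9, 11, 8, 11, 7, 11], [])]

def covE_16L : List (List Nat × List Nat) :=
  [([0, 11, 8, 0, 11, 8, 0, 11, 8], []),
   ([5, 6, 11, 5, 6, 11, 5, 6, 11], [])]

def covE_17L : List (List Nat × List Nat) :=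
  [([0, 8, 9, 1, 11, 0, 8, 9, 1, 11], []),
   ([0, 4, 3, 0, 7, 4, 8], [])]

def covE_18L : List (List Nat × List Nat) :=
  [([0, 6, 9, 1, 9, 0, 9], []),
   ([0, 4, 9, 0, 11, 0, 6, 5, 3, 11], [])]

def covE_19L : List (List Nat × List Nat) :=
  [([2, 5, 9, 10, 5, 7, 11, 10, 5, 10, 11], []),
   ([0, 12], [12, 0]),
   ([1, 12], [12, 1])]

def covE_20L : List (List Nat × List Nat) :=
  [([2, 12], [12, 2]),
   ([3, 12], [12, 3]),
   ([4, 12], [12, 4]),
   ([5, 12], [12, 5]),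
   ([6, 12], [12, 6])]

def covE_21L : List (List Nat × List Nat) :=
  [([7, 12], [12, 7]),
   ([8, 12], [12, 8]),
   ([9, 12], [12, 9]),
   ([10, 12], [12, 10]),
   ([11, 12], [12, 11])]

def covE_22L : List (List Nat × List Nat) :=
  [([12, 12], [12, 12]),
   ([12, 12, 12], [])]

theorem covE_0_0 : EqsP 66825 0 17 TC covE_0L :=
  eqsP_of okC (by norm_num) (by norm_num) (by norm_num) (show eqsP (nat_lit 66825) (nat_lit 17) (nat_lit 0) (nat_lit 17) TC covE_0L = true by decide +kernel)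

theorem covE_1_0 : EqsP 66825 0 17 TC covE_1L :=
  eqsP_of okC (by norm_num) (by norm_num) (by norm_num) (show eqsP (nat_lit 66825) (nat_lit 17) (nat_lit 0) (nat_lit 17) TC covE_1L = true by decide +kernel)

theorem covE_2_0 : EqsP 66825 0 17 TC covE_2L :=
  eqsP_of okC (by norm_num) (by norm_num) (by norm_num) (show eqsP (nat_lit 66825) (nat_lit 17) (nat_lit 0) (nat_lit 17) TC covE_2L = true by decide +kernel)

theorem covE_3_0 : EqsP 66825 0 17 TC covE_3L :=
  eqsP_of okC (by norm_num) (by norm_num) (by norm_num) (show eqsP (nat_lit 66825) (nat_lit 17) (nat_lit 0) (nat_lit 17) TC covE_3L = true by decide +kernel)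

theorem covE_4_0 : EqsP 66825 0 17 TC covE_4L :=
  eqsP_of okC (by norm_num) (by norm_num) (by norm_num) (show eqsP (nat_lit 66825) (nat_lit 17) (nat_lit 0) (nat_lit 17) TC covE_4L = true by decide +kernel)

theorem covE_5_0 : EqsP 66825 0 17 TC covE_5L :=
  eqsP_of okC (by norm_num) (by norm_num) (by norm_num) (show eqsP (nat_lit 66825) (nat_lit 17) (nat_lit 0) (nat_lit 17) TC covE_5L = true by decide +kernel)

theorem covE_6_0 : EqsP 66825 0 17 TC covE_6L :=
  eqsP_of okC (by norm_num) (by norm_num) (by norm_num) (show eqsP (nat_lit 66825) (nat_lit 17) (nat_lit 0) (nat_lit 17) TC covE_6L = true by decide +kernel)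

theorem covE_7_0 : EqsP 66825 0 17 TC covE_7L :=
  eqsP_of okC (by norm_num) (by norm_num) (by norm_num) (show eqsP (nat_lit 66825) (nat_lit 17) (nat_lit 0) (nat_lit 17) TC covE_7L = true by decide +kernel)

theorem covE_8_0 : EqsP 66825 0 17 TC covE_8L :=
  eqsP_of okC (by norm_num) (by norm_num) (by norm_num) (show eqsP (nat_lit 66825) (nat_lit 17) (nat_lit 0) (nat_lit 17) TC covE_8L = true by decide +kernel)

theorem covE_9_0 : EqsP 66825 0 17 TC covE_9L :=
  eqsP_of okC (by norm_num) (by norm_num) (by norm_num) (show eqsP (nat_lit 66825) (nat_lit 17) (nat_lit 0) (nat_lit 17) TC covE_9L = true by decide +kernel)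

theorem covE_10_0 : EqsP 66825 0 17 TC covE_10L :=
  eqsP_of okC (by norm_num) (by norm_num) (by norm_num) (show eqsP (nat_lit 66825) (nat_lit 17) (nat_lit 0) (nat_lit 17) TC covE_10L = true by decide +kernel)

theorem covE_11_0 : EqsP 66825 0 17 TC covE_11L :=
  eqsP_of okC (by norm_num) (by norm_num) (by norm_num) (show eqsP (nat_lit 66825) (nat_lit 17) (nat_lit 0) (nat_lit 17) TC covE_11L = true by decide +kernel)

theorem covE_12_0 : EqsP 66825 0 17 TC covE_12L :=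
  eqsP_of okC (by norm_num) (by norm_num) (by norm_num) (show eqsP (nat_lit 66825) (nat_lit 17) (nat_lit 0) (nat_lit 17) TC covE_12L = true by decide +kernel)

theorem covE_13_0 : EqsP 66825 0 17 TC covE_13L :=
  eqsP_of okC (by norm_num) (by norm_num) (by norm_num) (show eqsP (nat_lit 66825) (nat_lit 17) (nat_lit 0) (nat_lit 17) TC covE_13L = true by decide +kernel)

theorem covE_14_0 : EqsP 66825 0 17 TC covE_14L :=
  eqsP_of okC (by norm_num) (by norm_num) (by norm_num) (show eqsP (nat_lit 66825) (nat_lit 17) (nat_lit 0) (nat_lit 17) TC covE_14L = true by decide +kernel)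

theorem covE_15_0 : EqsP 66825 0 17 TC covE_15L :=
  eqsP_of okC (by norm_num) (by norm_num) (by norm_num) (show eqsP (nat_lit 66825) (nat_lit 17) (nat_lit 0) (nat_lit 17) TC covE_15L = true by decide +kernel)

theorem covE_16_0 : EqsP 66825 0 17 TC covE_16L :=
  eqsP_of okC (by norm_num) (by norm_num) (by norm_num) (show eqsP (nat_lit 66825) (nat_lit 17) (nat_lit 0) (nat_lit 17) TC covE_16L = true by decide +kernel)

theorem covE_17_0 : EqsP 66825 0 17 TC covE_17L :=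
  eqsP_of okC (by norm_num) (by norm_num) (by norm_num) (show eqsP (nat_lit 66825) (nat_lit 17) (nat_lit 0) (nat_lit 17) TC covE_17L = true by decide +kernel)

theorem covE_18_0 : EqsP 66825 0 17 TC covE_18L :=
  eqsP_of okC (by norm_num) (by norm_num) (by norm_num) (show eqsP (nat_lit 66825) (nat_lit 17) (nat_lit 0) (nat_lit 17) TC covE_18L = true by decide +kernel)

theorem covE_19_0 : EqsP 66825 0 17 TC covE_19L :=
  eqsP_of okC (by norm_num) (by norm_num) (by norm_num) (show eqsP (nat_lit 66825) (nat_lit 17) (nat_lit 0) (nat_lit 17) TC covE_19L = true by decide +kernel)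

theorem covE_20_0 : EqsP 66825 0 17 TC covE_20L :=
  eqsP_of okC (by norm_num) (by norm_num) (by norm_num) (show eqsP (nat_lit 66825) (nat_lit 17) (nat_lit 0) (nat_lit 17) TC covE_20L = true by decide +kernel)

theorem covE_21_0 : EqsP 66825 0 17 TC covE_21L :=
  eqsP_of okC (by norm_num) (by norm_num) (by norm_num) (show eqsP (nat_lit 66825) (nat_lit 17) (nat_lit 0) (nat_lit 17) TC covE_21L = true by decide +kernel)

theorem covE_22_0 : EqsP 66825 0 17 TC covE_22L :=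
  eqsP_of okC (by norm_num) (by norm_num) (by norm_num) (show eqsP (nat_lit 66825) (nat_lit 17) (nat_lit 0) (nat_lit 17) TC covE_22L = true by decide +kernel)

theorem covE_0 : ∀ e ∈ covE_0L, ev (sig TC) e.1 = ev (sig TC) e.2 := EqsP.eqs covE_0_0 okC (by norm_num)

theorem covE_1 : ∀ e ∈ covE_1L, ev (sig TC) e.1 = ev (sig TC) e.2 := EqsP.eqs covE_1_0 okC (by norm_num)

theorem covE_2 : ∀ e ∈ covE_2L, ev (sig TC) e.1 = ev (sig TC) e.2 := EqsP.eqs covE_2_0 okC (by norm_num)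

theorem covE_3 : ∀ e ∈ covE_3L, ev (sig TC) e.1 = ev (sig TC) e.2 := EqsP.eqs covE_3_0 okC (by norm_num)

theorem covE_4 : ∀ e ∈ covE_4L, ev (sig TC) e.1 = ev (sig TC) e.2 := EqsP.eqs covE_4_0 okC (by norm_num)

theorem covE_5 : ∀ e ∈ covE_5L, ev (sig TC) e.1 = ev (sig TC) e.2 := EqsP.eqs covE_5_0 okC (by norm_num)

theorem covE_6 : ∀ e ∈ covE_6L, ev (sig TC) e.1 = ev (sig TC) e.2 := EqsP.eqs covE_6_0 okC (by norm_num)

theorem covE_7 : ∀ e ∈ covE_7L, ev (sig TC) e.1 = ev (sig TC) e.2 := EqsP.eqs covE_7_0 okC (by norm_num)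

theorem covE_8 : ∀ e ∈ covE_8L, ev (sig TC) e.1 = ev (sig TC) e.2 := EqsP.eqs covE_8_0 okC (by norm_num)

theorem covE_9 : ∀ e ∈ covE_9L, ev (sig TC) e.1 = ev (sig TC) e.2 := EqsP.eqs covE_9_0 okC (by norm_num)

theorem covE_10 : ∀ e ∈ covE_10L, ev (sig TC) e.1 = ev (sig TC) e.2 := EqsP.eqs covE_10_0 okC (by norm_num)

theorem covE_11 : ∀ e ∈ covE_11L, ev (sig TC) e.1 = ev (sig TC) e.2 := EqsP.eqs covE_11_0 okC (by norm_num)

theorem covE_12 : ∀ e ∈ covE_12L, ev (sig TC) e.1 = ev (sig TC) e.2 := EqsP.eqs covE_12_0 okC (by norm_num)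

theorem covE_13 : ∀ e ∈ covE_13L, ev (sig TC) e.1 = ev (sig TC) e.2 := EqsP.eqs covE_13_0 okC (by norm_num)

theorem covE_14 : ∀ e ∈ covE_14L, ev (sig TC) e.1 = ev (sig TC) e.2 := EqsP.eqs covE_14_0 okC (by norm_num)

theorem covE_15 : ∀ e ∈ covE_15L, ev (sig TC) e.1 = ev (sig TC) e.2 := EqsP.eqs covE_15_0 okC (by norm_num)

theorem covE_16 : ∀ e ∈ covE_16L, ev (sig TC) e.1 = ev (sig TC) e.2 := EqsP.eqs covE_16_0 okC (by norm_num)

theorem covE_17 : ∀ e ∈ covE_17L, ev (sig TC) e.1 = ev (sig TC) e.2 := EqsP.eqs covE_17_0 okC (by norm_num)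

theorem covE_18 : ∀ e ∈ covE_18L, ev (sig TC) e.1 = ev (sig TC) e.2 := EqsP.eqs covE_18_0 okC (by norm_num)

theorem covE_19 : ∀ e ∈ covE_19L, ev (sig TC) e.1 = ev (sig TC) e.2 := EqsP.eqs covE_19_0 okC (by norm_num)

theorem covE_20 : ∀ e ∈ covE_20L, ev (sig TC) e.1 = ev (sig TC) e.2 := EqsP.eqs covE_20_0 okC (by norm_num)

theorem covE_21 : ∀ e ∈ covE_21L, ev (sig TC) e.1 = ev (sig TC) e.2 := EqsP.eqs covE_21_0 okC (by norm_num)

theorem covE_22 : ∀ e ∈ covE_22L, ev (sig TC) e.1 = ev (sig TC) e.2 := EqsP.eqs covE_22_0 okC (by norm_num)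

theorem covE : ∀ e ∈ (covEqs 12 1 (2 + 1) Cfsg.Agent.SchurG.McL.R Zs), ev (sig TC) e.1 = ev (sig TC) e.2 :=
  (show (covE_0L ++ (covE_1L ++ (covE_2L ++ (covE_3L ++ (covE_4L ++ (covE_5L ++ (covE_6L ++ (covE_7L ++ (covE_8L ++ (covE_9L ++ (covE_10L ++ (covE_11L ++ (covE_12L ++ (covE_13L ++ (covE_14L ++ (covE_15L ++ (covE_16L ++ (covE_17L ++ (covE_18L ++ (covE_19L ++ (covE_20L ++ (covE_21L ++ covE_22L)))))))))))))))))))))) = (covEqs 12 1 (2 + 1) Cfsg.Agent.SchurG.McL.R Zs) by decide +kernel) ▸ (eqs_append covE_0 (eqs_append covE_1 (eqs_append covE_2 (eqs_append covE_3 (eqs_append covE_4 (eqs_append covE_5 (eqs_append covE_6 (eqs_append covE_7 (eqs_append covE_8 (eqs_append covE_9 (eqs_append covE_10 (eqs_append covE_11 (eqs_append covE_12 (eqs_append covE_13 (eqs_append covE_14 (eqs_append covE_15 (eqs_append covE_16 (eqs_append covE_17 (eqs_append covE_18 (eqs_append covE_19 (eqs_append covE_20 (eqs_append covE_21 covE_22))))))))))))))))))))))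

def lvC : List (List (List Nat) × List Nat × Nat × Nat) :=
  [([[12]], [0, 0], 0, 3)]

theorem low : Low Cfsg.Agent.SchurG.McL.G 3 :=
  haveI := Cfsg.Agent.SchurG.McL.simple
  low_net Cfsg.Agent.SchurG.McL.pres okC (l := 17) (by norm_num) covE (a := 0) (a' := 4) (p := 0) (x := 44569) (y := 4)
    (by decide +kernel) (by decide +kernel) (b := 12)
    (C := [nat_lit 0x1201011020060200501])
    (by decide +kernel) (lv := lvC) (by decide +kernel) (by decide +kernel)

end Cfsg.Agent.Schur.McL
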